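import Mathlib
import Cfsg.Agent.H80.OrthTwo
import Cfsg.Agent.ClassicalGeometry.TwoFamilies
import Cfsg.Agent.ClassicalGeometry.SympIso
import Cfsg.Agent.ClassicalGeometry.SympBasic
import Cfsg.Agent.S0765
import Cfsg.Agent.Prune
set_option linter.all false
prune_inst 0x7f00000000000000000000000000000000000000000000000000000000000000000000000000000000000000000000000000000000000000000000000000000000000000000000000000000000000000003fffffffffffffffffffffffffffbeffbdffffffff
open scoped Cfsg.Agent.FastGrp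

/-!
# Isometries of square one outside `Ω`, characteristic two (helper292)

`Q` nondegenerate on `ι → F`, `F` finite of characteristic two, `g` an isometry with `g * g = 1`.

* `exists_vec` : a vector `a` with `polar Q a v ^ 2 = Q (g v - v)`;
* `fix_vec` : every isometry commuting with `g` fixes `a`;
* `quad_vec` : `Q a = 1` if the rank of `g - 1` is odd;
* `exists_chart` : symplectic coordinates on `a^⊥ / a`;
* `stab_equiv` : the stabilizer of `a`, `Q a = 1`, in `Ω(Q)` is `Sp_{2n}(F)`, `2 n + 2` the dimension.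
-/

set_option autoImplicit false
set_option linter.unusedSectionVars false

namespace Cfsg.Agent.H292.OrthVec

open Module Matrix QuadraticMap
open Cfsg (sympForm)
open Cfsg.Agent.ClassicalGeometry.OrthCharTwo
open Cfsg.Agent.ClassicalGeometry.OrthDickson
open Cfsg.Agent.ClassicalGeometry.Reflection
open Cfsg.Agent.ClassicalGeometry.SympBasic
open Cfsg.Agent.ClassicalGeometry.SympIso
open Cfsg.Agent.H80

variable {ι : Type} [Fintype ι] [DecidableEq ι] {F : Type*} [Field F]

section Sq

theorem sq_inj (h2 : (2 : F) = 0) {a b : F} (h : a ^ 2 = b ^ 2) : a = b := by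
  have h1 : (a - b) ^ 2 = 0 := by linear_combination h + (b ^ 2 - a * b) * h2
  exact sub_eq_zero.1 (pow_eq_zero_iff two_ne_zero |>.1 h1)

variable [Finite F]

theorem exists_lin (h2 : (2 : F) = 0) {V : Type*} [AddCommGroup V] [Module F V] (q : V → F)
    (hadd : ∀ u v, q (u + v) = q u + q v)
    (hsmul : ∀ (c : F) v, q (c • v) = c ^ 2 * q v) : ∃ φ : V →ₗ[F] F, ∀ v, φ v ^ 2 = q v := by
  choose s hs using exists_sq_two (F := F) h2
  refine ⟨{ toFun := fun v => s (q v), map_add' := fun u v => ?_, map_smul' := fun c v => ?_ }, fun v => ?_⟩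
  · apply sq_inj h2
    have e1 := hs (q (u + v))
    have e2 := hs (q u)
    have e3 := hs (q v)
    have e4 := hadd u v
    linear_combination e1 - e2 - e3 + e4 - (s (q u) * s (q v)) * h2
  · apply sq_inj h2
    have e1 := hs (q (c • v))
    have e2 := hs (q v)
    have e4 := hsmul c v
    rw [smul_eq_mul, RingHom.id_apply]
    linear_combination e1 - c ^ 2 * e2 + e4
  · change s (q v) ^ 2 = q v
    rw [_root_.sq, hs]

end Sq

variable {Q : QuadraticForm F (ι → F)}

theorem exists_rep (hQ : (polarBilin Q).Nondegenerate) (φ : (ι → F) →ₗ[F] F) : ∃ a, ∀ v, polar Q a v = φ v := by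
  refine ⟨(LinearMap.BilinForm.toDual (polarBilin Q) hQ).symm φ, fun v => ?_⟩
  have h := LinearMap.BilinForm.apply_toDual_symm_apply (B := polarBilin Q) (hB := hQ) φ v
  exact h

variable (g : Cfsg.isometryGroup F (⇑Q))

theorem act_act (hg : g * g = 1) (v : ι → F) : act g (act g v) = v := by
  rw [← act_mul, hg, act_one]

theorem Q_nil (v : ι → F) : Q (act g v - v) = - polar Q v (act g v - v) := by
  have h1 : Q (act g v) = Q v + Q (act g v - v) + polar Q v (act g v - v) := by
    have := QuadraticMap.map_add Q v (act g v - v)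
    rwa [add_sub_cancel] at this
  have h3 := Q_act g v
  linear_combination h3 - h1

variable [Finite F] (h2 : (2 : F) = 0)

include h2 in
/-- **The vector of an isometry of square one.** -/
theorem exists_vec (hQ : (polarBilin Q).Nondegenerate) (hg : g * g = 1) :
    ∃ a, ∀ v, polar Q a v ^ 2 = Q (act g v - v) := by
  have hadd : ∀ u v, Q (act g (u + v) - (u + v)) = Q (act g u - u) + Q (act g v - v) := by
    intro u v
    have e1 : act g (u + v) - (u + v) = (act g u - u) + (act g v - v) := by rw [act_add]; abel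
    have e2 : polar Q (act g u) v = polar Q u (act g v) := by
      rw [← polar_act g (act g u) v, act_act g hg]
    rw [e1, QuadraticMap.map_add Q, polar_sub_left, polar_sub_right, polar_sub_right, polar_act, e2]
    linear_combination (polar Q u v - polar Q u (act g v)) * h2
  have hsmul : ∀ (c : F) v, Q (act g (c • v) - c • v) = c ^ 2 * Q (act g v - v) := by
    intro c v
    have e1 : act g (c • v) - c • v = c • (act g v - v) := by rw [act_smul, smul_sub]
    rw [e1, QuadraticMap.map_smul, smul_eq_mul, _root_.sq]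
  obtain ⟨φ, hφ⟩ := exists_lin h2 (fun v => Q (act g v - v)) hadd hsmul
  obtain ⟨a, ha⟩ := exists_rep hQ φ
  exact ⟨a, fun v => by rw [ha, hφ]⟩

include h2 in
/-- Isometries commuting with `g` fix the vector of `g`. -/
theorem fix_vec (hQ : (polarBilin Q).Nondegenerate) {a : ι → F} (ha : ∀ v, polar Q a v ^ 2 = Q (act g v - v))
    (h : Cfsg.isometryGroup F (⇑Q)) (hc : h * g = g * h) : act h a = a := by
  apply eq_of_polar Q hQ
  intro z
  obtain ⟨w, rfl⟩ : ∃ w, act h w = z := ⟨act h⁻¹ z, act_act_inv h z⟩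
  rw [polar_act]
  apply sq_inj h2
  have h3 := Q_act h (act g w - w)
  rw [ha, ha, ← act_mul, ← hc, act_mul, ← act_sub]
  exact h3.symm

omit [Finite F] in
include h2 in
theorem polar_self_two (v : ι → F) : polar Q v v = 0 := by
  rw [polar_self, two_smul]
  linear_combination (Q v) * h2

omit [Finite F] in
include h2 in
/-- The form `polar (g v - v, w) + polar (a, v) polar (a, w)` is alternating; its kernel. -/
theorem quad_vec {a : ι → F} (ha : ∀ v, polar Q a v ^ 2 = Q (act g v - v)) (hQ : (polarBilin Q).Nondegenerate)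
    (hr : ¬ Even (mat g - 1).rank) : Q a = 1 := by
  let N : (ι → F) →ₗ[F] (ι → F) := Matrix.mulVecLin (mat g - 1)
  have hN : ∀ v, N v = act g v - v := fun v => by
    rw [Matrix.mulVecLin_apply, Matrix.sub_mulVec, Matrix.one_mulVec]; rfl
  let B : LinearMap.BilinForm F (ι → F) :=
    (polarBilin Q).compl₁₂ N LinearMap.id + LinearMap.BilinForm.linMulLin (polarBilin Q a) (polarBilin Q a)
  have hB : ∀ v w, B v w = polar Q (act g v - v) w + polar Q a v * polar Q a w := fun v w => by
    change polar Q (N v) w + polar Q a v * polar Q a w = _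
    rw [hN]
  have hA : B.IsAlt := fun v => by
    rw [hB, ← _root_.sq, ha, Q_nil, polar_comm]
    ring
  obtain ⟨m, hm⟩ := ClassicalGeometry.TwoFamilies.exists_finrank_eq_ker_add B hA
  have hle : fixSp g ≤ LinearMap.ker B := by
    intro v hv
    rw [LinearMap.mem_ker]
    ext w
    have h1 : polar Q a v = 0 := by
      apply sq_inj h2
      rw [ha, mem_fixSp.1 hv, sub_self, QuadraticMap.map_zero]
      ring
    change B v (LinearMap.single F (fun _ => F) w 1) = 0
    rw [hB, mem_fixSp.1 hv, sub_self, polar_zero_left, h1, zero_mul, add_zero]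
  have hne : ¬ LinearMap.ker B ≤ fixSp g := by
    intro h
    have h1 : fixSp g = LinearMap.ker B := le_antisymm hle h
    have h3 := finrank_fixSp_add_rank g
    rw [h1] at h3
    rw [finrank_fintype_fun_eq_card] at hm
    exact hr ⟨m, by omega⟩
  obtain ⟨v, hv, hv'⟩ := Set.not_subset.1 hne
  have h1 : ∀ w, polar Q (act g v - v) w + polar Q a v * polar Q a w = 0 := by
    intro w
    rw [← hB]
    exact LinearMap.congr_fun (LinearMap.mem_ker.1 hv) w
  have h3 : act g v - v = - polar Q a v • a := by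
    apply eq_of_polar Q hQ
    intro w
    rw [polar_smul_left, smul_eq_mul]
    linear_combination h1 w
  have h4 : polar Q a v ≠ 0 := by
    intro h
    apply hv'
    rw [h, neg_zero, zero_smul, sub_eq_zero] at h3
    exact h3
  have h5 := ha v
  rw [h3, QuadraticMap.map_smul, smul_eq_mul] at h5
  have h6 : polar Q a v ^ 2 * (Q a - 1) = 0 := by linear_combination -h5
  rcases mul_eq_zero.1 h6 with h | h
  · exact absurd (pow_eq_zero_iff two_ne_zero |>.1 h) h4
  · exact sub_eq_zero.1 h

omit [Finite F] in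
include h2 in
/-- **Symplectic coordinates on `a^⊥ / a`.** -/
theorem exists_chart (hQ : (polarBilin Q).Nondegenerate) {a : ι → F} (ha : Q a = 1) {n : ℕ}
    (hn : Fintype.card ι = 2 * n + 2) :
    ∃ (e : (Fin n ⊕ Fin n → F) →ₗ[F] (ι → F)) (p : (ι → F) →ₗ[F] (Fin n ⊕ Fin n → F)),
      (∀ u v, polar Q (e u) (e v) = sympForm n F u v) ∧ (∀ u, polar Q a (e u) = 0) ∧
      (∀ v, polar Q a v = 0 → ∃ c : F, v = e (p v) + c • a) ∧ (∀ u, p (e u) = u) ∧ p a = 0 := by
  have ha0 : a ≠ 0 := by
    rintro rfl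
    rw [QuadraticMap.map_zero] at ha
    exact zero_ne_one ha
  obtain ⟨b', hb'⟩ := exists_polar_ne_zero Q hQ ha0
  obtain ⟨b, hb⟩ : ∃ b, polar Q a b = 1 := ⟨(polar Q a b')⁻¹ • b', by
    rw [polar_smul_right, smul_eq_mul, inv_mul_cancel₀ hb']⟩
  have hb2 : polar Q b a = 1 := by rw [polar_comm, hb]
  let f : (ι → F) →ₗ[F] (Fin 2 → F) := LinearMap.pi ![polarBilin Q a, polarBilin Q b]
  have hf0 : ∀ v, f v 0 = polar Q a v := fun v => rfl
  have hf1 : ∀ v, f v 1 = polar Q b v := fun v => rfl
  let W := LinearMap.ker f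
  have hW : ∀ v, v ∈ W ↔ polar Q a v = 0 ∧ polar Q b v = 0 := by
    intro v
    rw [LinearMap.mem_ker]
    constructor
    · intro h
      exact ⟨congrFun h 0, congrFun h 1⟩
    · rintro ⟨h, h'⟩
      funext i
      fin_cases i
      · exact h
      · exact h'
  have hsurj : Function.Surjective f := by
    intro s
    refine ⟨s 0 • b + s 1 • a, ?_⟩
    funext i
    fin_cases i
    · change polar Q a _ = s 0
      rw [polar_add_right, polar_smul_right, polar_smul_right, hb, polar_self_two h2, smul_eq_mul, smul_eq_mul]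
      ring
    · change polar Q b _ = s 1
      rw [polar_add_right, polar_smul_right, polar_smul_right, hb2, polar_self_two h2, smul_eq_mul, smul_eq_mul]
      ring
  have hd : finrank F W = 2 * n := by
    have h1 := LinearMap.finrank_range_add_finrank_ker f
    rw [LinearMap.range_eq_top.2 hsurj, finrank_top, finrank_fintype_fun_eq_card, finrank_fintype_fun_eq_card, hn,
      Fintype.card_fin] at h1
    change 2 + finrank F W = _ at h1
    omega
  let π' : (ι → F) →ₗ[F] (ι → F) := LinearMap.id - (polarBilin Q b).smulRight a - (polarBilin Q a).smulRight b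
  have hπ' : ∀ v, π' v = v - polar Q b v • a - polar Q a v • b := fun v => rfl
  have hπW : ∀ v, π' v ∈ W := by
    intro v
    rw [hW, hπ']
    constructor
    · rw [polar_sub_right, polar_sub_right, polar_smul_right, polar_smul_right, hb, polar_self_two h2, smul_zero,
        smul_eq_mul]
      ring
    · rw [polar_sub_right, polar_sub_right, polar_smul_right, polar_smul_right, hb2, polar_self_two h2, smul_zero,
        smul_eq_mul]
      ring
  let π : (ι → F) →ₗ[F] W := π'.codRestrict W hπW
  have hπ : ∀ v, ((π v : W) : ι → F) = v - polar Q b v • a - polar Q a v • b := fun v => rfl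
  let B : LinearMap.BilinForm F W := (polarBilin Q).compl₁₂ W.subtype W.subtype
  have hB : ∀ u v : W, B u v = polar Q (u : ι → F) v := fun _ _ => rfl
  have hA : B.IsAlt := fun u => polar_self_two h2 _
  have hnd : ∀ u, (∀ v, B u v = 0) → u = 0 := by
    intro u hu
    apply Subtype.ext
    apply nondeg_left Q hQ
    intro y
    have h1 : polar Q (u : ι → F) (π y : W) = 0 := hu (π y)
    have h3 := (hW _).1 u.2
    rw [hπ, polar_sub_right, polar_sub_right, polar_smul_right, polar_smul_right, polar_comm Q _ a,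
      polar_comm Q _ b, h3.1, h3.2, smul_zero, smul_zero, sub_zero, sub_zero] at h1
    exact h1
  obtain ⟨e, he⟩ := exists_linearEquiv_sympForm B hA hnd hd
  refine ⟨W.subtype ∘ₗ e.toLinearMap, e.symm.toLinearMap ∘ₗ π, fun u v => he u v, fun u => ((hW _).1 (e u).2).1,
    fun v hv => ⟨polar Q b v, ?_⟩, fun u => ?_, ?_⟩
  · change v = ((e (e.symm (π v)) : W) : ι → F) + _
    rw [e.apply_symm_apply, hπ, hv, zero_smul, sub_zero, sub_add_cancel]
  · change e.symm (π (e u : W)) = u
    rw [LinearEquiv.symm_apply_eq]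
    apply Subtype.ext
    rw [hπ, ((hW _).1 (e u).2).1, ((hW _).1 (e u).2).2, zero_smul, zero_smul, sub_zero, sub_zero]
  · change e.symm (π a) = 0
    rw [LinearEquiv.symm_apply_eq, map_zero]
    apply Subtype.ext
    rw [hπ, hb2, polar_self_two h2, one_smul, zero_smul, sub_self, sub_zero]
    rfl

/-- the stabilizer of `a` in `Ω` -/
def T (Q : QuadraticForm F (ι → F)) (a : ι → F) : Subgroup ↥(Cfsg.Omega F ⇑Q) where
  carrier := {s | act (s : Cfsg.isometryGroup F ⇑Q) a = a}
  mul_mem' {s t} hs ht := by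
    change act ((s : Cfsg.isometryGroup F ⇑Q) * (t : Cfsg.isometryGroup F ⇑Q)) a = a
    rw [act_mul, show act (t : Cfsg.isometryGroup F ⇑Q) a = a from ht]
    exact hs
  one_mem' := act_one a
  inv_mem' {s} hs := by
    change act ((s : Cfsg.isometryGroup F ⇑Q)⁻¹) a = a
    have h := congrArg (act ((s : Cfsg.isometryGroup F ⇑Q)⁻¹)) (show act (s : Cfsg.isometryGroup F ⇑Q) a = a from hs)
    rw [act_inv_act] at h
    exact h.symm

omit [Finite F] in
theorem mem_T {a : ι → F} {s : ↥(Cfsg.Omega F ⇑Q)} : s ∈ T Q a ↔ act (s : Cfsg.isometryGroup F ⇑Q) a = a := Iff.rfl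

section Chart

variable {a : ι → F} {n : ℕ} {e : (Fin n ⊕ Fin n → F) →ₗ[F] (ι → F)} {p : (ι → F) →ₗ[F] (Fin n ⊕ Fin n → F)}

/-- a chart -/
structure Chart (Q : QuadraticForm F (ι → F)) (a : ι → F) (e : (Fin n ⊕ Fin n → F) →ₗ[F] (ι → F))
    (p : (ι → F) →ₗ[F] (Fin n ⊕ Fin n → F)) : Prop where
  form : ∀ u v, polar Q (e u) (e v) = sympForm n F u v
  perp : ∀ u, polar Q a (e u) = 0
  dec : ∀ v, polar Q a v = 0 → ∃ c : F, v = e (p v) + c • a
  pe : ∀ u, p (e u) = u
  pa : p a = 0
  one : Q a = 1

/-- the linear map in coordinates -/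
noncomputable def linOf (e : (Fin n ⊕ Fin n → F) →ₗ[F] (ι → F)) (p : (ι → F) →ₗ[F] (Fin n ⊕ Fin n → F))
    (s : Cfsg.isometryGroup F ⇑Q) : Matrix (Fin n ⊕ Fin n) (Fin n ⊕ Fin n) F :=
  LinearMap.toMatrix' (p ∘ₗ (Matrix.mulVecLin (mat s)) ∘ₗ e)

omit [Finite F] in
theorem linOf_mulVec (s : Cfsg.isometryGroup F ⇑Q) (u : Fin n ⊕ Fin n → F) :
    linOf e p s *ᵥ u = p (act s (e u)) := by
  rw [linOf, LinearMap.toMatrix'_mulVec]
  rfl

omit [Finite F] in
theorem perp_act {s : Cfsg.isometryGroup F ⇑Q} (hs : act s a = a) {v : ι → F} (hv : polar Q a v = 0) :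
    polar Q a (act s v) = 0 := by
  have h := polar_act s a v
  rw [hs, hv] at h
  exact h

omit [Finite F] in
theorem p_act (C : Chart Q a e p) {s : Cfsg.isometryGroup F ⇑Q} (hs : act s a = a) {v : ι → F}
    (hv : polar Q a v = 0) : p (act s v) = p (act s (e (p v))) := by
  obtain ⟨c, hc⟩ := C.dec v hv
  conv_lhs => rw [hc]
  rw [act_add, act_smul, hs, map_add, map_smul, C.pa, smul_zero, add_zero]

omit [Finite F] in
include h2 in
theorem form_p (C : Chart Q a e p) {u v : ι → F} (hu : polar Q a u = 0) (hv : polar Q a v = 0) :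
    sympForm n F (p u) (p v) = polar Q u v := by
  obtain ⟨c, hc⟩ := C.dec u hu
  obtain ⟨d, hd⟩ := C.dec v hv
  rw [← C.form]
  conv_rhs => rw [hc, hd]
  rw [polar_add_left, polar_add_right, polar_add_right, polar_smul_left, polar_smul_left, polar_smul_right,
    polar_smul_right, C.perp, polar_comm Q _ a, C.perp, polar_self_two h2]
  simp

omit [Finite F] in
include h2 in
theorem linOf_mem (C : Chart Q a e p) {s : Cfsg.isometryGroup F ⇑Q} (hs : act s a = a) :
    linOf e p s ∈ Matrix.symplecticGroup (Fin n) F := by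
  rw [mem_symplecticGroup_iff]
  intro u v
  rw [linOf_mulVec, linOf_mulVec, form_p h2 C (perp_act hs (C.perp u)) (perp_act hs (C.perp v)), polar_act, C.form]

/-- the homomorphism -/
noncomputable def rho (C : Chart Q a e p) : ↥(T Q a) →* Matrix.symplecticGroup (Fin n) F where
  toFun s := ⟨linOf e p (s.1 : Cfsg.isometryGroup F ⇑Q), linOf_mem h2 C s.2⟩
  map_one' := by
    apply Subtype.ext
    change linOf e p (1 : Cfsg.isometryGroup F ⇑Q) = 1
    rw [← Matrix.mulVec_injective.eq_iff]
    funext u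
    rw [linOf_mulVec, act_one, C.pe, Matrix.one_mulVec]
  map_mul' s t := by
    apply Subtype.ext
    change linOf e p ((s.1 : Cfsg.isometryGroup F ⇑Q) * (t.1 : Cfsg.isometryGroup F ⇑Q)) =
      linOf e p (s.1 : Cfsg.isometryGroup F ⇑Q) * linOf e p (t.1 : Cfsg.isometryGroup F ⇑Q)
    rw [← Matrix.mulVec_injective.eq_iff]
    funext u
    rw [linOf_mulVec, ← Matrix.mulVec_mulVec, linOf_mulVec, linOf_mulVec, act_mul]
    exact p_act C s.2 (perp_act t.2 (C.perp u))

omit [Finite F] in
theorem coe_rho (C : Chart Q a e p) (s : ↥(T Q a)) :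
    ((rho h2 C s : Matrix.symplecticGroup (Fin n) F) : Matrix (Fin n ⊕ Fin n) (Fin n ⊕ Fin n) F) =
      linOf e p (s.1 : Cfsg.isometryGroup F ⇑Q) := rfl

include h2 in
theorem rho_injective (C : Chart Q a e p) (hQ : (polarBilin Q).Nondegenerate) [Nonempty ι]
    (hcard : Fintype.card ι ≠ 4) : Function.Injective (rho h2 C) := by
  rw [injective_iff_map_eq_one]
  intro s hs
  have hs1 : ∀ u, p (act (s.1 : Cfsg.isometryGroup F ⇑Q) (e u)) = u := by
    intro u
    rw [← linOf_mulVec, ← coe_rho h2 C, hs]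
    exact Matrix.one_mulVec u
  have hfix : ∀ u, act (s.1 : Cfsg.isometryGroup F ⇑Q) (e u) = e u := by
    intro u
    obtain ⟨c, hc⟩ := C.dec _ (perp_act s.2 (C.perp u))
    rw [hs1] at hc
    have h1 : Q (act (s.1 : Cfsg.isometryGroup F ⇑Q) (e u)) = Q (e u) := Q_act _ _
    rw [hc, QuadraticMap.map_add Q, QuadraticMap.map_smul, C.one, polar_smul_right, polar_comm, C.perp, smul_zero,
      smul_eq_mul] at h1
    have h3 : c = 0 := by
      apply sq_inj h2
      linear_combination h1
    rw [hc, h3, zero_smul, add_zero]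
  have hle : ∀ v, polar Q a v = 0 → v ∈ fixSp (s.1 : Cfsg.isometryGroup F ⇑Q) := by
    intro v hv
    obtain ⟨c, hc⟩ := C.dec v hv
    rw [hc, mem_fixSp, act_add, act_smul, hfix, s.2]
  have hrank : finrank F (fixSp (s.1 : Cfsg.isometryGroup F ⇑Q)) + 1 ≥ Fintype.card ι := by
    have h1 : LinearMap.ker (polarBilin Q a) ≤ fixSp (s.1 : Cfsg.isometryGroup F ⇑Q) := fun v hv => hle v hv
    have h3 := Submodule.finrank_mono h1
    have h4 := LinearMap.finrank_range_add_finrank_ker (polarBilin Q a)
    rw [finrank_fintype_fun_eq_card] at h4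
    have h5 : finrank F (LinearMap.range (polarBilin Q a)) ≤ 1 := by
      have := Submodule.finrank_le (LinearMap.range (polarBilin Q a))
      rwa [finrank_self] at this
    omega
  have hev := (mem_commutator_iff h2 Q hQ (Or.inr hcard) (s.1 : Cfsg.isometryGroup F ⇑Q)).1 s.1.2
  have h6 := finrank_fixSp_add_rank (s.1 : Cfsg.isometryGroup F ⇑Q)
  have h7 : fixSp (s.1 : Cfsg.isometryGroup F ⇑Q) = ⊤ := by
    apply Submodule.eq_top_of_finrank_eq
    rw [finrank_fintype_fun_eq_card]
    obtain ⟨k, hk⟩ := hev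
    omega
  exact Subtype.ext (Subtype.ext (fixSp_eq_top_iff.1 h7))

include h2 in
theorem rho_surjective (C : Chart Q a e p) (hQ : (polarBilin Q).Nondegenerate) [Nonempty ι]
    (hcard : Fintype.card ι ≠ 4) : Function.Surjective (rho h2 C) := by
  rw [← MonoidHom.range_eq_top, eq_top_iff, ← Cfsg.Agent.S0765.result n, Subgroup.closure_le]
  rintro A ⟨w, c, hA⟩
  rcases eq_or_ne c 0 with rfl | hc
  · refine ⟨1, ?_⟩
    rw [map_one]
    apply Subtype.ext
    rw [hA, Cfsg.sympTransvection, zero_smul, add_zero]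
    rfl
  obtain ⟨κ, hκ⟩ := exists_sq_two h2 (Q (e w) + c⁻¹)
  obtain ⟨y, hy⟩ : ∃ y, y = e w + κ • a := ⟨_, rfl⟩
  have hQy : Q y = c⁻¹ := by
    rw [hy, QuadraticMap.map_add Q, QuadraticMap.map_smul, C.one, polar_smul_right, polar_comm, C.perp, smul_zero,
      smul_eq_mul]
    linear_combination hκ + (Q (e w)) * h2
  have hy0 : Q y ≠ 0 := by rw [hQy]; exact inv_ne_zero hc
  have ha0 : Q a ≠ 0 := by rw [C.one]; exact one_ne_zero
  have hya : polar Q y a = 0 := by
    rw [hy, polar_add_left, polar_smul_left, polar_comm, C.perp, polar_self_two h2, smul_zero, add_zero]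
  obtain ⟨s, hs⟩ : ∃ s, s = reflIso Q y hy0 * reflIso Q a ha0 := ⟨_, rfl⟩
  have hsΩ : s ∈ Cfsg.Omega F ⇑Q := by
    have h4 := refl_notMem_commutator Q hQ (Or.inr hcard) y hy0
    have h5 := refl_notMem_commutator Q hQ (Or.inr hcard) a ha0
    rw [hs]
    exact (Subgroup.mul_mem_iff_of_index_two (index_commutator_two Q h2 hQ (Or.inr hcard))).2
      ⟨fun h => absurd h h4, fun h => absurd h h5⟩
  have hsa : act s a = a := by
    rw [hs, act_mul, act_refl_of_polar Q a ha0 a (polar_self_two h2 a), act_refl_of_polar Q y hy0 a hya]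
  refine ⟨⟨⟨s, hsΩ⟩, hsa⟩, ?_⟩
  apply Subtype.ext
  rw [coe_rho, hA, ← Matrix.mulVec_injective.eq_iff]
  funext u
  rw [linOf_mulVec]
  change p (act s (e u)) = _
  rw [hs, act_mul, act_refl_of_polar Q a ha0 (e u) (C.perp u), act_refl, hQy, inv_inv, map_sub, C.pe, map_smul, hy,
    map_add, C.pe, map_smul, C.pa, smul_zero, add_zero, polar_add_left, polar_smul_left, C.perp, smul_zero, add_zero,
    C.form, Cfsg.sympTransvection, Matrix.add_mulVec, Matrix.one_mulVec, Matrix.smul_mulVec, Matrix.vecMulVec_mulVec,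
    sub_eq_add_neg]
  congr 1
  have h9 : (Matrix.J (Fin n) F *ᵥ w) ⬝ᵥ u = - sympForm n F w u := by
    rw [dotProduct_comm]
    exact Cfsg.Agent.S0765.form_swap u w
  rw [h9, op_smul_eq_smul, smul_smul, ← neg_smul, mul_neg]

include h2 in
/-- **The stabilizer of a vector `a` with `Q a = 1` in `Ω`.** -/
theorem stab_equiv (hQ : (polarBilin Q).Nondegenerate) [Nonempty ι] {a : ι → F} (ha : Q a = 1) {n : ℕ}
    (hn : Fintype.card ι = 2 * n + 2) (hcard : Fintype.card ι ≠ 4) :
    Nonempty (↥(T Q a) ≃* Matrix.symplecticGroup (Fin n) F) := by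
  obtain ⟨e, p, h1, h3, h4, h5, h6⟩ := exists_chart h2 hQ ha hn
  have C : Chart Q a e p := ⟨h1, h3, h4, h5, h6, ha⟩
  exact ⟨MulEquiv.ofBijective (rho h2 C) ⟨rho_injective h2 C hQ hcard, rho_surjective h2 C hQ hcard⟩⟩

end Chart

end Cfsg.Agent.H292.OrthVec

private theorem dce_8c0e1473e19c : _root_.True := by
  try have : _root_.True := by simp only [_root_.Cfsg.sympTransvection.eq_1]
  try have : _root_.True := by simp only [_root_.Cfsg.Agent.H292.OrthVec.linOf.eq_1]
  exact _root_.True.intro
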