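import Mathlib
import Cfsg.Agent.S0000
import Cfsg.Agent.OddHalf.Known
import Cfsg.Agent.H284.AltComp
import Cfsg.Agent.H284.SepOrd
import Cfsg.Agent.H340.OddLie
import Cfsg.Agent.H78.TeFour
import Cfsg.Agent.H287.FixInn
import Cfsg.Agent.H283.OddSpor
import Cfsg.Agent.H292.RowAll
import Cfsg.Agent.H292.NamExc
import Cfsg.Agent.H292.PspTwo_m3
import Cfsg.Agent.Prune
set_option linter.all false
open scoped Cfsg.Agent.FastGrp

/-!
# Involutory automorphisms of the simple groups with a component `PSU_m(2^n)`, `PSp_2k(2^n)`, `PΩ^±_2k(2^n)` (helper292)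
-/

set_option autoImplicit false
set_option linter.unusedSectionVars false

namespace Cfsg.Agent.H292.Master

open Subgroup Cfsg Cfsg.Agent.OrdDiv Cfsg.Agent.H902 Cfsg.Agent.H902.Names Cfsg.Agent.H292.NamExc
open Cfsg.Agent.H292.Rows Cfsg.Agent.H292.Oct

universe u v

/-- the names of the components in S3128, S3129, S3130 -/
inductive Big : Grp → Prop
  | u (m n : ℕ) (hm : 6 ≤ m) (hn : 1 ≤ n) (hex : ¬ (m = 6 ∧ n = 1)) : Big (.psu m (2 ^ n))
  | s (k n : ℕ) (hk : 3 ≤ k) (hn : 1 ≤ n) (hex : ¬ (k = 3 ∧ n = 1)) : Big (.psp k (2 ^ n))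
  | p (k n : ℕ) (hk : 4 ≤ k) (hn : 1 ≤ n) (hex : ¬ (k = 4 ∧ n = 1)) : Big (.oplus k (2 ^ n))
  | m (k n : ℕ) (hk : 4 ≤ k) (hn : 1 ≤ n) (hex : ¬ (k = 4 ∧ n = 1)) : Big (.ominus k (2 ^ n))

section Arith

variable {e : Grp} {M : ℕ}

theorem eq_two {n p f : ℕ} (hn : 1 ≤ n) (hp : p.Prime) (h : 2 ^ n = p ^ f) : p = 2 := by
  have h1 : 2 ∣ p ^ f := h ▸ dvd_pow_self 2 (by omega)
  exact ((Nat.prime_dvd_prime_iff_eq Nat.prime_two hp).1 (Nat.prime_two.dvd_of_dvd_pow h1)).symm

theorem tri {m : ℕ} (hm : 6 ≤ m) : 12 ≤ m * (m - 1) / 2 := by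
  have h1 : 6 * 5 ≤ m * (m - 1) := Nat.mul_le_mul hm (by omega)
  omega

theorem rect {m : ℕ} (hm : 4 ≤ m) : 12 ≤ m * (m - 1) := by
  have h1 : 4 * 3 ≤ m * (m - 1) := Nat.mul_le_mul hm (by omega)
  omega

theorem Big.sh (he : Big e) (h : N2 e M) :
    ∃ X f, Art.Real X 2 f M ∧ (Art.NN X = 9 ∨ 12 ≤ Art.NN X) := by
  rcases h with ⟨n, rfl, -, -⟩ | ⟨X, p, f, hg, hr⟩
  · cases he
  · cases he with
    | u m n hm hn hex =>
      generalize hq : 2 ^ n = q at hg
      cases hg with
      | psu _ _ _ =>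
        obtain rfl := eq_two hn hr.hp hq
        exact ⟨_, _, hr, Or.inr (tri hm)⟩
    | s k n hk hn hex =>
      generalize hq : 2 ^ n = q at hg
      cases hg with
      | psp _ _ _ =>
        obtain rfl := eq_two hn hr.hp hq
        refine ⟨_, _, hr, ?_⟩
        rcases Nat.lt_or_ge k 4 with h4 | h4
        · obtain rfl : k = 3 := by omega
          exact Or.inl rfl
        · right
          show 12 ≤ k ^ 2
          nlinarith
    | p k n hk hn hex =>
      generalize hq : 2 ^ n = q at hg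
      cases hg with
      | oplus _ _ _ =>
        obtain rfl := eq_two hn hr.hp hq
        exact ⟨_, _, hr, Or.inr (rect hk)⟩
    | m k n hk hn hex =>
      generalize hq : 2 ^ n = q at hg
      cases hg with
      | ominus _ _ _ =>
        obtain rfl := eq_two hn hr.hp hq
        exact ⟨_, _, hr, Or.inr (rect hk)⟩

theorem Big.fact (he : Big e) (h : N2 e M) : ∃ a b : ℕ, 1 ≤ a ∧ (b = 9 ∨ 12 ≤ b) ∧ a * b = M.factorization 2 ∧ M ≠ 0 := by
  obtain ⟨X, f, hr, h9⟩ := he.sh h
  exact ⟨f, Art.NN X, hr.hf, h9, Art.P_prime_exp hr, hr.M_ne⟩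

theorem Big.nine (he : Big e) (h : N2 e M) : 2 ^ 9 ∣ M := by
  obtain ⟨a, b, ha, hb, hab, h0⟩ := he.fact h
  have h1 : 9 ≤ M.factorization 2 := by
    rw [← hab]
    calc 9 ≤ 1 * b := by omega
      _ ≤ a * b := Nat.mul_le_mul_right b ha
  exact (Nat.prime_two.pow_dvd_iff_le_factorization h0).2 h1

theorem Big.not_exc (he : Big e) (h : N2 e M) : ¬ Exc M := by
  have h1 := he.nine h
  norm_num at h1
  unfold Exc
  rintro (h2 | h2 | h2 | h2 | h2) <;> rw [h2] at h1 <;> revert h1 <;> decide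

theorem Big.unique {g : Grp} (he : Big e) (h : N2 e M) (h' : N2 g M) : g = e := by
  rcases n2_unique h' h (he.not_exc h) with h1 | ⟨m, q, -, -, -, h1⟩ | ⟨m, q, -, hq, -, h1⟩
  · exact h1
  · rw [h1] at he
    cases he
  · rw [h1] at he
    generalize hg : Grp.psp m q = g' at he
    cases he with
    | s k n hk hn hex =>
      obtain ⟨-, rfl⟩ := Grp.psp.inj hg
      exact absurd hq (Nat.not_odd_iff_even.2 ((even_two).pow_of_ne_zero (by omega)))
    | u => cases hg
    | p => cases hg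
    | m => cases hg

theorem Big.not_tits (he : Big e) (h : N2 e 17971200) : False := by
  obtain ⟨a, b, ha, hb, hab, h0⟩ := he.fact h
  have h1 : (17971200 : ℕ).factorization 2 = 11 := by
    have h2 : (17971200 : ℕ) = 2 ^ 11 * 8775 := by norm_num
    rw [h2, Nat.factorization_mul (by norm_num) (by norm_num), Finsupp.add_apply, Nat.prime_two.factorization_pow,
      Finsupp.single_eq_same, Nat.factorization_eq_zero_of_not_dvd (by norm_num)]
  rw [h1] at hab
  rcases hb with rfl | hb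
  · omega
  · have : b ≤ a * b := Nat.le_mul_of_pos_left b ha
    omega

end Arith

/-! ### the names of `A / Z(A)` -/

section Row

variable {X : Type u} [Group X] {x : MulAut X} {A : Subgroup ↥(fixedSubgroup x)} {e : Grp}

theorem quo_equiv [IsSimpleGroup ↥A] (hA : IsComponent A) : Nonempty (↥A ⧸ center ↥A ≃* ↥A) := by
  have h1 : center ↥A = ⊥ := CpAut.center_eq_bot_of_simple
    (SignalizersComponents.Components.quasisimple_not_isMulCommutative hA.2)
  exact ⟨(QuotientGroup.quotientMulEquivOfEq h1).trans QuotientGroup.quotientBot⟩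

/-- alternating groups -/
theorem no_alt (he : Big e) (hA : IsComponent A) (hN : N2 e (Nat.card (↥A ⧸ center ↥A))) (hx : x * x = 1)
    (hx1 : x ≠ 1) : ¬ IsAlternating X := by
  rintro ⟨m, hm, ⟨f⟩⟩
  obtain ⟨n, k, hn, -, -, ⟨g⟩, -⟩ := H284.AltComp.table hm f hx hx1 hA
  have : IsSimpleGroup ↥(alternatingGroup (Fin n)) := alternatingGroup.isSimpleGroup (by rw [Nat.card_fin]; exact hn)
  have : IsSimpleGroup ↥A := g.isSimpleGroup
  obtain ⟨q⟩ := quo_equiv hA
  have h1 : N2 (.alt n) (Nat.card (↥A ⧸ center ↥A)) := by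
    rw [Nat.card_congr q.toEquiv]
    exact (nam_alt hn g).2
  have h2 := he.unique hN h1
  rw [← h2] at he
  cases he

variable [Finite X] [IsSimpleGroup X]

theorem simple_of_two (hna : ¬ IsMulCommutative X) (hK : IsChevSimple 2 X) (hx : x * x = 1) (hA : IsComponent A) :
    IsSimpleGroup ↥A :=
  (H284.CharTwoComp.of_fix (act_of_chev hna hK) hx hA).1

/-- classical groups of characteristic two -/
theorem row_cla (hna : ¬ IsMulCommutative X) (hX : Cla X) (he : Big e) (hA : IsComponent A)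
    (hN : N2 e (Nat.card (↥A ⧸ center ↥A))) (hx : x * x = 1) (hx1 : x ≠ 1) (h8 : Eight (↥A ⧸ center ↥A)) :
    ∃ g, Pr g e ∧ Real g X := by
  have hK : IsChevSimple 2 X := by
    unfold Cla at hX
    unfold IsChevSimple IsLieTypeChar
    tauto
  have := simple_of_two hna hK hx hA
  obtain ⟨q⟩ := quo_equiv hA
  rw [Nat.card_congr q.toEquiv] at hN
  rcases row_all hX with ⟨g, hg, -, h⟩ | h
  · obtain ⟨h', h1, -, h2⟩ := h x hx hx1 A hA
    obtain rfl := he.unique hN h2
    exact ⟨g, h1, hg⟩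
  · exact absurd (h8.map q.toMonoidHom q.injective) (not_eight h A)

/-- exceptional groups of characteristic two -/
theorem no_exc (hna : ¬ IsMulCommutative X)
    (hX : IsExceptionalChevChar 2 X ∨ IsTwistedE6D4Char 2 X ∨ Lie.IsoSuzuki X ∨ Lie.Iso2F4 X) (he : Big e)
    (hA : IsComponent A) (hN : N2 e (Nat.card (↥A ⧸ center ↥A))) (hx : x * x = 1) (hx1 : x ≠ 1) : False := by
  have hK : IsChevSimple 2 X := by
    unfold IsChevSimple IsLieTypeChar
    tauto
  have := simple_of_two hna hK hx hA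
  obtain ⟨q⟩ := quo_equiv hA
  rw [Nat.card_congr q.toEquiv] at hN
  rcases pair_nam (H78.TeFour.exc_comp hna hX x (by rw [pow_two, hx]) hx1 A hA) with ⟨g, hg, h⟩ | h
  · obtain rfl := he.unique hN h
    cases hg
    · cases he
    · cases he
    · cases he
    · cases he
    · cases he
    · cases he
    · cases he
    · cases he
    · generalize hq : Grp.psu 3 3 = g at he
      cases he with
      | u m n hm hn hex =>
        have := (Grp.psu.inj hq).1
        omega
      | s => cases hq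
      | p => cases hq
      | m => cases hq
  · rw [h] at hN
    exact he.not_tits hN

theorem big_eight {S : Type u} [Group S] (he : Big e) (hr : OrdDiv.Real e S) : Eight S := by
  have hch : ∀ (F : Type) [Field F] [Fintype F] (k : ℕ), 1 ≤ k → Fintype.card F = 2 ^ k → CharP F 2 := by
    intro F _ _ k hk hc
    obtain ⟨p, hp⟩ := CharP.exists F
    have : Fact p.Prime := ⟨CharP.char_is_prime F p⟩
    obtain ⟨n, hp', hn⟩ := FiniteField.card F p
    rw [eq_two hk hp' (hc.symm.trans hn)] at hp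
    exact hp
  cases he with
  | u m n hm hn hex =>
    obtain ⟨F, i1, i2, hF, ⟨f⟩⟩ := hr
    have := hch F (n * 2) (by omega) (by rw [hF, pow_mul])
    exact (eight_psu hF hm).map f.symm.toMonoidHom f.symm.injective
  | s k n hk hn hex =>
    obtain ⟨F, i1, i2, hF, ⟨f⟩⟩ := hr
    have := hch F n hn hF
    exact (oct_psp (F := F) hk).map f.symm.toMonoidHom f.symm.injective
  | p k n hk hn hex =>
    obtain ⟨F, i1, i2, hF, ⟨f⟩⟩ := hr
    have := hch F n hn hF
    exact (OctOrth.eight_plus (F := F) CharTwo.two_eq_zero hk).map f.symm.toMonoidHom f.symm.injective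
  | m k n hk hn hex =>
    obtain ⟨F, i1, i2, a, b, hF, hab, ⟨f⟩⟩ := hr
    have := hch F n hn hF
    exact (OctOrth.eight_minus (F := F) CharTwo.two_eq_zero hk hab).map f.symm.toMonoidHom f.symm.injective

end Row

end Cfsg.Agent.H292.Master
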