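import Mathlib
import Cfsg.Agent.H292.StdBig
import Cfsg.Agent.H902.Iso
import Cfsg.Agent.Prune
set_option linter.all false
open scoped Cfsg.Agent.FastGrp

/-!
# Field changes for S3128, S3129, S3130 (helper292)
-/

set_option autoImplicit false
set_option linter.unusedSectionVars false

namespace Cfsg.Agent.H292.Final

open Subgroup Cfsg Cfsg.Agent.H292.Master Cfsg.Agent.H292.Rows

universe u v w

theorem exists_field {n : ℕ} (hn : n ≠ 0) :
    ∃ (K : Type) (_ : Field K) (_ : Fintype K) (_ : CharP K 2), Fintype.card K = 2 ^ n :=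
  ⟨GaloisField 2 n, inferInstance, Fintype.ofFinite _, inferInstance, by
    have := Fintype.ofFinite (GaloisField 2 n)
    rw [Fintype.card_eq_nat_card]
    exact GaloisField.card 2 n hn⟩

/-- `L / O(L)` is nonabelian -/
theorem hna {L : Type u} [Group L] (hL : IsQuasisimple L) (hs : IsSimpleGroup (L ⧸ oddCore L)) :
    ¬ IsMulCommutative (L ⧸ oddCore L) := by
  intro h
  have h1 := hL.1
  have h2 : Group.IsPerfect (L ⧸ oddCore L) :=
    Group.IsPerfect.ofSurjective (f := QuotientGroup.mk' (oddCore L)) (QuotientGroup.mk'_surjective _)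
  have h3 : commutator (L ⧸ oddCore L) = ⊤ := h2.commutator_eq_top
  have h4 : commutator (L ⧸ oddCore L) = ⊥ := by
    rw [commutator_def, Subgroup.commutator_eq_bot_iff_le_centralizer]
    intro a _
    rw [mem_centralizer_iff]
    intro b _
    exact h.is_comm.comm b a
  obtain ⟨x, hx⟩ := exists_ne (1 : L ⧸ oddCore L)
  apply hx
  rw [← mem_bot, ← h4, h3]
  exact mem_top x

section trans

variable {F : Type u} {K : Type v} [Field F] [Fintype F] [Field K] [Fintype K] {S : Type w} [Group S]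

theorem psl_tr (h : Fintype.card F = Fintype.card K) (n : ℕ)
    (e : Nonempty (S ≃* Matrix.ProjectiveSpecialLinearGroup (Fin n) K)) :
    Nonempty (S ≃* Matrix.ProjectiveSpecialLinearGroup (Fin n) F) := by
  obtain ⟨e⟩ := e
  exact ⟨e.trans (LieClassical.FieldTransfer.pslCongr (FiniteField.ringEquivOfCardEq h.symm))⟩

theorem psp_tr (h : Fintype.card F = Fintype.card K) (n : ℕ) (e : Nonempty (S ≃* PSp n K)) :
    Nonempty (S ≃* PSp n F) := by
  obtain ⟨e⟩ := e
  exact ⟨e.trans (LieClassical.FieldTransfer.pspCongr n (FiniteField.ringEquivOfCardEq h.symm))⟩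

theorem psu_tr (h : Fintype.card F = Fintype.card K) (n q : ℕ) (e : Nonempty (S ≃* PSU n K q)) :
    Nonempty (S ≃* PSU n F q) := by
  obtain ⟨e⟩ := e
  exact ⟨e.trans (LieClassical.FieldTransfer.psuCongr n q (FiniteField.ringEquivOfCardEq h.symm))⟩

theorem plus_tr (h : Fintype.card F = Fintype.card K) (n : ℕ) (e : Nonempty (S ≃* POmega K (quadFormPlus n K))) :
    Nonempty (S ≃* POmega F (quadFormPlus n F)) := by
  obtain ⟨e⟩ := e
  obtain ⟨f⟩ := UGT.U2.Rec.Congr.nonempty_POmega _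
    (H902.Iso.plus_map (F := K) (K := F) (FiniteField.ringEquivOfCardEq h.symm) n)
  exact ⟨e.trans f⟩

theorem minus_tr (h : Fintype.card F = Fintype.card K) (n : ℕ) {a b : K}
    (hab : ∀ z₁ z₂ : K, z₁ ^ 2 + a * z₁ * z₂ + b * z₂ ^ 2 = 0 → z₁ = 0 ∧ z₂ = 0)
    (e : Nonempty (S ≃* POmega K (quadFormMinus n K a b))) :
    ∃ a' b' : F, (∀ z₁ z₂ : F, z₁ ^ 2 + a' * z₁ * z₂ + b' * z₂ ^ 2 = 0 → z₁ = 0 ∧ z₂ = 0) ∧
      Nonempty (S ≃* POmega F (quadFormMinus n F a' b')) := by
  obtain ⟨e⟩ := e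
  have σ : K ≃+* F := FiniteField.ringEquivOfCardEq h.symm
  obtain ⟨f⟩ := UGT.U2.Rec.Congr.nonempty_POmega _ (H902.Iso.minus_map σ n a b)
  exact ⟨σ a, σ b, H902.Iso.aniso_map σ hab, ⟨e.trans f⟩⟩

end trans

end Cfsg.Agent.H292.Final
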